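import Groth.Agent.Lib.EtSplit10.Residue
import Mathlib.RingTheory.Etale.QuasiFinite
import Mathlib.RingTheory.Ideal.GoingUp
import Mathlib.RingTheory.Unramified.LocalStructure

/-!
# Decomposition of integral algebras over étale neighbourhoods
-/

set_option autoImplicit false
set_option linter.all false
set_option backward.isDefEq.respectTransparency false

universe u

open TensorProduct

namespace GrothLib.EtSplit10

theorem exists_kill {R T : Type u} [CommRing R] [CommRing T] [Algebra R T] [Algebra.IsIntegral R T]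
    (P : Ideal R) [P.IsPrime] {e : T} (he : IsIdempotentElem e)
    (h : ∀ (Q : Ideal T) [Q.IsPrime], Q.comap (algebraMap R T) = P → e ∈ Q) :
    ∃ g ∉ P, algebraMap R T g * e = 0 := by
  by_contra hc
  push Not at hc
  let M : Submonoid T := Submonoid.map (algebraMap R T) P.primeCompl ⊔ Submonoid.powers e
  have hM : Disjoint ((⊥ : Ideal T) : Set T) M := by
    rw [Set.disjoint_left]
    intro t ht htM
    rw [SetLike.mem_coe, Ideal.mem_bot] at ht
    subst ht
    obtain ⟨_, ⟨g, hg, rfl⟩, _, ⟨n, rfl⟩, hge⟩ := Submonoid.mem_sup.1 htM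
    refine hc g hg ?_
    cases n with
    | zero => simp only [pow_zero, mul_one] at hge; rw [hge, zero_mul]
    | succ n => dsimp only at hge; rwa [he.pow_succ_eq] at hge
  obtain ⟨Q, hQ, -, hQM⟩ := Ideal.exists_le_prime_disjoint ⊥ M hM
  have hle : Q.comap (algebraMap R T) ≤ P := fun g hg => by
    by_contra hgP
    exact Set.disjoint_left.1 hQM hg
      (Submonoid.mem_sup_left (T := Submonoid.powers e) ⟨g, hgP, rfl⟩)
  obtain ⟨Q', hQQ', hQ', hQ'P⟩ := Ideal.exists_ideal_over_prime_of_isIntegral P Q hle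
  have he' : e ∉ Q := fun h' => Set.disjoint_left.1 hQM h'
    (Submonoid.mem_sup_right (S := Submonoid.map (algebraMap R T) P.primeCompl) ⟨1, pow_one e⟩)
  have h1 : (1 - e) ∈ Q := ((hQ.mem_or_mem (by rw [he.mul_one_sub_self]; exact Q.zero_mem))).resolve_left he'
  have h2 := Q'.add_mem (h Q' hQ'P) (hQQ' h1)
  rw [add_sub_cancel] at h2
  exact hQ'.ne_top ((Ideal.eq_top_iff_one Q').2 h2)

theorem exists_idem {R₁ T : Type u} [CommRing R₁] [CommRing T] [Algebra R₁ T] [Algebra.IsIntegral R₁ T]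
    (p₁ : Ideal R₁) [p₁.IsPrime] (hfin : (p₁.primesOver T).Finite) :
    ∃ (R₂ : Type u) (_ : CommRing R₂) (_ : Algebra R₁ R₂) (_ : Algebra.Etale R₁ R₂) (P : Ideal R₂)
      (_ : P.IsPrime) (_ : P.LiesOver p₁) (n : ℕ) (e : Fin (n + 1) → R₂ ⊗[R₁] T)
      (_ : CompleteOrthogonalIdempotents e),
      (∀ (Q : Ideal (R₂ ⊗[R₁] T)) [Q.IsPrime], Q.comap (algebraMap R₂ _) = P → e (.last n) ∈ Q) ∧
      ∀ i : Fin n, ∃ Q : Ideal (R₂ ⊗[R₁] T), Q.IsPrime ∧ Q.comap (algebraMap R₂ _) = P ∧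
        e i.castSucc ∉ Q ∧ ∀ (Q' : Ideal (R₂ ⊗[R₁] T)) [Q'.IsPrime],
          Q'.comap (algebraMap R₂ _) = P → e i.castSucc ∉ Q' → Q' = Q := by
  classical
  haveI := hfin.to_subtype
  have hsep : ∀ a b : p₁.primesOver T, ∃ t : T, a = b ∨ ¬ (t ∈ a.1 ↔ t ∈ b.1) := fun a b => by
    by_cases hab : a = b
    · exact ⟨0, .inl hab⟩
    · by_contra hc
      push Not at hc
      exact hab (Subtype.ext (Ideal.ext fun t => (hc t).2))
  choose t ht using hsep
  let S₀ : Subalgebra R₁ T := Algebra.adjoin R₁ (Set.range fun ab : _ × _ => t ab.1 ab.2)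
  haveI : Module.Finite R₁ S₀ := Module.Finite.iff_fg.2
    (fg_adjoin_of_finite (Set.finite_range _) fun x _ => Algebra.IsIntegral.isIntegral x)
  obtain ⟨R₂, _, _, _, P, _, _, n, e, he, P', hP'1, hP'2, hbij, heP', H⟩ :=
    Algebra.exists_etale_completeOrthogonalIdempotents_forall_liesOver_eq (S := S₀) p₁
  let φ : R₂ ⊗[R₁] S₀ →ₐ[R₂] R₂ ⊗[R₁] T := Algebra.TensorProduct.map (AlgHom.id R₂ R₂) S₀.val
  have hφ : ∀ (Q : Ideal (R₂ ⊗[R₁] T)), Q.comap (algebraMap R₂ _) = P →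
      (Q.comap φ.toRingHom).comap (algebraMap R₂ _) = P := fun Q hQ => by
    rw [Ideal.comap_comap, AlgHom.toRingHom_eq_coe, φ.comp_algebraMap, hQ]
  refine ⟨R₂, inferInstance, inferInstance, inferInstance, P, inferInstance, inferInstance, n, φ ∘ e,
    he.map φ.toRingHom, fun Q _ hQ => ?_, fun i => ?_⟩
  · exact (H (Q.comap φ.toRingHom) inferInstance ⟨(hφ Q hQ).symm⟩).1
  · haveI := hP'1 i
    haveI := hP'2 i
    let q₀ := (P' i).comap (Algebra.TensorProduct.includeRight : S₀ →ₐ[R₁] R₂ ⊗[R₁] S₀).toRingHom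
    have hq₀ : q₀.comap (algebraMap R₁ S₀) = p₁ := by
      rw [Ideal.comap_comap, AlgHom.toRingHom_eq_coe, AlgHom.comp_algebraMap,
        IsScalarTower.algebraMap_eq R₁ R₂ (R₂ ⊗[R₁] S₀), ← Ideal.comap_comap]
      exact (congrArg (Ideal.comap (algebraMap R₁ R₂)) (hP'2 i).over.symm).trans ‹P.LiesOver p₁›.over.symm
    haveI : Algebra.IsIntegral S₀ T := Algebra.IsIntegral.tower_top (R := R₁)
    obtain ⟨q, -, hqp, hq⟩ := Ideal.exists_ideal_over_prime_of_isIntegral q₀ (⊥ : Ideal T) (by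
      rw [show (⊥ : Ideal T).comap (algebraMap S₀ T) = ⊥ from
        (RingHom.injective_iff_ker_eq_bot _).1 Subtype.val_injective]
      exact bot_le)
    have hq1 : q.comap (algebraMap R₁ T) = p₁ := by
      rw [IsScalarTower.algebraMap_eq R₁ S₀ T, ← Ideal.comap_comap, hq, hq₀]
    haveI : q.LiesOver p₁ := ⟨hq1.symm⟩
    let Q := ((Ideal.fiberIsoOfBijectiveResidueField (S := T) hbij).symm ⟨q, hqp, inferInstance⟩)
    haveI := Q.2.1
    haveI := Q.2.2
    have hQq : Q.1.comap (Algebra.TensorProduct.includeRight : T →ₐ[R₁] R₂ ⊗[R₁] T).toRingHom = q :=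
      Ideal.comap_fiberIsoOfBijectiveResidueField_symm hbij ⟨q, hqp, inferInstance⟩
    have hcomp : φ.toRingHom.comp (Algebra.TensorProduct.includeRight : S₀ →ₐ[R₁] R₂ ⊗[R₁] S₀).toRingHom
        = (Algebra.TensorProduct.includeRight : T →ₐ[R₁] R₂ ⊗[R₁] T).toRingHom.comp (algebraMap S₀ T) :=
      RingHom.ext fun x => by simp [φ]
    haveI : (Q.1.comap φ.toRingHom).LiesOver P := ⟨(hφ Q.1 Q.2.2.over.symm).symm⟩
    have hQP' : Q.1.comap φ.toRingHom = P' i :=
      Ideal.eq_of_comap_eq_comap_of_bijective_residueFieldMap hbij _ _ (by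
        rw [Ideal.comap_comap, hcomp, ← Ideal.comap_comap, hQq, hq])
    refine ⟨Q.1, inferInstance, Q.2.2.over.symm, ?_, fun Q' _ hQ' he' => ?_⟩
    · intro h
      refine heP' i ?_
      rw [← hQP']
      exact h
    · haveI : Q'.LiesOver P := ⟨hQ'.symm⟩
      have h2 : Q'.comap φ.toRingHom = P' i :=
        (H (Q'.comap φ.toRingHom) inferInstance ⟨(hφ Q' hQ').symm⟩).2 i he'
      refine Ideal.eq_of_comap_eq_comap_of_bijective_residueFieldMap hbij _ _ ?_
      let q' := Q'.comap (Algebra.TensorProduct.includeRight : T →ₐ[R₁] R₂ ⊗[R₁] T).toRingHom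
      have hq' : q'.comap (algebraMap R₁ T) = p₁ := by
        rw [Ideal.comap_comap, AlgHom.toRingHom_eq_coe, AlgHom.comp_algebraMap,
          IsScalarTower.algebraMap_eq R₁ R₂ (R₂ ⊗[R₁] T), ← Ideal.comap_comap, hQ']
        exact ‹P.LiesOver p₁›.over.symm
      have hS : ∀ s : S₀, (s : T) ∈ q' ↔ (s : T) ∈ q := fun s => by
        rw [← hQq]
        have := (Ideal.ext_iff.1 (h2.trans hQP'.symm)) ((1 : R₂) ⊗ₜ[R₁] s)
        simpa [φ, q'] using this
      rw [hQq]
      let a : p₁.primesOver T := ⟨q', inferInstance, ⟨hq'.symm⟩⟩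
      let b : p₁.primesOver T := ⟨q, hqp, inferInstance⟩
      rcases ht a b with h | h
      · exact congrArg Subtype.val h
      · exact absurd (hS ⟨t a b, Algebra.subset_adjoin ⟨(a, b), rfl⟩⟩) h

theorem eq_of_comap_eq {T T' : Type u} [CommRing T] [CommRing T'] (ρ : T →+* T')
    (h : ∀ x : T', ∃ (u : T') (y : T), IsUnit u ∧ u * x = ρ y) {Q Q' : Ideal T'}
    (hQ : Q.comap ρ = Q'.comap ρ) : Q = Q' := by
  ext x
  obtain ⟨u, y, hu, hy⟩ := h x
  rw [← Ideal.unit_mul_mem_iff_mem Q hu, ← Ideal.unit_mul_mem_iff_mem Q' hu, hy,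
    ← Ideal.mem_comap, ← Ideal.mem_comap, hQ]

end GrothLib.EtSplit10
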