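import Groth.Agent.Lib.EtSplit10.Decomp

/-!
# Étale base change splitting an integral algebra at a prime
-/

set_option autoImplicit false
set_option linter.all false
set_option backward.isDefEq.respectTransparency false

universe u

open TensorProduct

namespace GrothLib.EtSplit10

variable {R S : Type u} [CommRing R] [CommRing S] [Algebra R S]

theorem splitsAt_trans {R₁ R' : Type u} [CommRing R₁] [CommRing R'] [Algebra R R₁] [Algebra R R']
    [Algebra R₁ R'] [IsScalarTower R R₁ R'] {p : Ideal R} [p.IsPrime] {p₁ : Ideal R₁} [p₁.IsPrime]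
    {p' : Ideal R'} [p'.IsPrime] (h₁ : p = p₁.comap (algebraMap R R₁))
    (h₂ : p₁ = p'.comap (algebraMap R₁ R')) (h : p = p'.comap (algebraMap R R'))
    (hs : SplitsAt (S := S) p p₁ h₁) : SplitsAt (S := S) p p' h := by
  intro q _ hq y
  letI := (Ideal.ResidueField.map p q (algebraMap R S) hq.symm).toAlgebra
  intro hy
  have := (hs q hq y hy).map (Ideal.ResidueField.map p₁ p' (algebraMap R₁ R') h₂)
  rw [Polynomial.map_map] at this
  convert this using 2
  refine RingHom.ext fun c => ?_
  obtain ⟨a, d, hd, hc⟩ := residueField_eq_div p c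
  have key : ∀ r, Ideal.ResidueField.map p p' (algebraMap R R') h (algebraMap R _ r) =
      Ideal.ResidueField.map p₁ p' (algebraMap R₁ R') h₂
        (Ideal.ResidueField.map p p₁ (algebraMap R R₁) h₁ (algebraMap R _ r)) := fun r => by
    rw [Ideal.ResidueField.map_algebraMap, Ideal.ResidueField.map_algebraMap,
      Ideal.ResidueField.map_algebraMap, ← IsScalarTower.algebraMap_apply R R₁ R']
  have e1 := congrArg (Ideal.ResidueField.map p p' (algebraMap R R') h) hc
  have e2 := congrArg ((Ideal.ResidueField.map p₁ p' (algebraMap R₁ R') h₂).comp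
    (Ideal.ResidueField.map p p₁ (algebraMap R R₁) h₁)) hc
  rw [RingHom.comp_apply, RingHom.comp_apply, map_mul (Ideal.ResidueField.map p p₁ (algebraMap R R₁) h₁),
    map_mul (Ideal.ResidueField.map p₁ p' (algebraMap R₁ R') h₂)] at e2
  rw [map_mul, key, key] at e1
  rw [RingHom.comp_apply]
  exact mul_right_cancel₀ ((_root_.map_ne_zero _).2 ((_root_.map_ne_zero _).2 hd)) (e1.trans e2.symm)

theorem isPurelyInseparable_residue [Algebra.IsIntegral R S] {R' A : Type u} [CommRing R'] [CommRing A]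
    [Algebra R R'] [Algebra R' A] (π : R' ⊗[R] S →ₐ[R'] A) (hπ : Function.Surjective π)
    {p : Ideal R} [p.IsPrime] {p' : Ideal R'} [p'.IsPrime] (h : p = p'.comap (algebraMap R R'))
    (hs : SplitsAt (S := S) p p' h) (r : Ideal A) [r.IsPrime] (hr : r.comap (algebraMap R' A) = p') :
    letI := (Ideal.ResidueField.map p' r (algebraMap R' A) hr.symm).toAlgebra
    IsPurelyInseparable p'.ResidueField r.ResidueField := by
  letI := (Ideal.ResidueField.map p' r (algebraMap R' A) hr.symm).toAlgebra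
  let j : S →+* A := π.toRingHom.comp (Algebra.TensorProduct.includeRight : S →ₐ[R] R' ⊗[R] S).toRingHom
  have hj : j.comp (algebraMap R S) = (algebraMap R' A).comp (algebraMap R R') := RingHom.ext fun x => by
    show π (1 ⊗ₜ[R] algebraMap R S x) = algebraMap R' A (algebraMap R R' x)
    rw [← π.commutes, Algebra.TensorProduct.algebraMap_apply, Algebra.algebraMap_self_apply,
      Algebra.algebraMap_eq_smul_one x, TensorProduct.tmul_smul, TensorProduct.smul_tmul',
      ← Algebra.algebraMap_eq_smul_one]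
  let q := r.comap j
  have hq : q.comap (algebraMap R S) = p := by
    rw [Ideal.comap_comap, hj, ← Ideal.comap_comap, hr, ← h]
  letI := (Ideal.ResidueField.map p q (algebraMap R S) hq.symm).toAlgebra
  haveI : IsScalarTower R p.ResidueField q.ResidueField := IsScalarTower.of_algebraMap_eq fun x => by
    show _ = Ideal.ResidueField.map p q (algebraMap R S) hq.symm (algebraMap R p.ResidueField x)
    rw [Ideal.ResidueField.map_algebraMap]
    exact IsScalarTower.algebraMap_apply R S q.ResidueField x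
  let a : q.ResidueField →+* r.ResidueField := Ideal.ResidueField.map q r j rfl
  let c : p.ResidueField →+* p'.ResidueField := Ideal.ResidueField.map p p' (algebraMap R R') h
  have hsq : a.comp (algebraMap p.ResidueField q.ResidueField) =
      (algebraMap p'.ResidueField r.ResidueField).comp c := by
    refine RingHom.ext fun z => ?_
    obtain ⟨x, d, hd, hz⟩ := residueField_eq_div p z
    have key : ∀ y : R, a (Ideal.ResidueField.map p q (algebraMap R S) hq.symm (algebraMap R _ y)) =
        Ideal.ResidueField.map p' r (algebraMap R' A) hr.symm (c (algebraMap R _ y)) := fun y => by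
      rw [Ideal.ResidueField.map_algebraMap, Ideal.ResidueField.map_algebraMap,
        Ideal.ResidueField.map_algebraMap, Ideal.ResidueField.map_algebraMap]
      exact congrArg _ (congr($hj y))
    have e1 := congrArg (a.comp (algebraMap p.ResidueField q.ResidueField)) hz
    have e2 := congrArg ((algebraMap p'.ResidueField r.ResidueField).comp c) hz
    rw [map_mul] at e1 e2
    refine mul_right_cancel₀ ?_ ((e1.trans (key x)).trans (e2.symm.trans ?_))
    · simpa using hd
    · exact congrArg (_ * ·) (key d).symm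
  obtain ⟨ℓ, hℓ⟩ := ExpChar.exists p.ResidueField
  haveI := hℓ
  haveI : ExpChar p'.ResidueField ℓ := expChar_of_injective_ringHom c.injective ℓ
  rw [isPurelyInseparable_iff_perfectClosure_eq_top, eq_top_iff]
  haveI : Algebra.IsAlgebraic p.ResidueField q.ResidueField := by
    refine ⟨fun z => ?_⟩
    obtain ⟨x, d, hd, hz⟩ := residueField_eq_div q z
    have hint : ∀ s : S, IsAlgebraic p.ResidueField (algebraMap S q.ResidueField s) := fun s => by
      exact (((Algebra.IsIntegral.isIntegral (R := R) s).map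
        (IsScalarTower.toAlgHom R S q.ResidueField)).tower_top (A := p.ResidueField)).isAlgebraic
    have : z = algebraMap S q.ResidueField x * (algebraMap S q.ResidueField d)⁻¹ := by
      rw [← hz, mul_assoc, mul_inv_cancel₀ hd, mul_one]
    rw [this]
    exact (hint x).mul (hint d).inv
  have hmem : ∀ s : S, algebraMap A r.ResidueField (j s) ∈ perfectClosure p'.ResidueField r.ResidueField := by
    intro s
    obtain ⟨n, w, hw⟩ := IsPurelyInseparable.pow_mem (separableClosure p.ResidueField q.ResidueField) ℓ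
      (algebraMap S q.ResidueField s)
    rw [mem_perfectClosure_iff_pow_mem ℓ]
    refine ⟨n, ?_⟩
    have hy : IsSeparable p.ResidueField (w : q.ResidueField) := mem_separableClosure_iff.1 w.2
    obtain ⟨b, hb⟩ := Polynomial.Splits.mem_range_of_isRoot
      (i := algebraMap p'.ResidueField r.ResidueField) (hs q hq _ hy)
      (Polynomial.Monic.ne_zero ((minpoly.monic (Algebra.IsAlgebraic.isAlgebraic (w : q.ResidueField)).isIntegral).map _))
      (x := a w) (by
        rw [Polynomial.IsRoot.def, Polynomial.eval_map, Polynomial.eval₂_map, ← hsq,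
          ← Polynomial.hom_eval₂, ← Polynomial.aeval_def, minpoly.aeval, map_zero])
    refine ⟨b, hb.trans ?_⟩
    rw [show (w : q.ResidueField) = _ from hw, map_pow, Ideal.ResidueField.map_algebraMap]
  have hA : ∀ z : A, algebraMap A r.ResidueField z ∈ perfectClosure p'.ResidueField r.ResidueField := by
    intro z
    obtain ⟨t, rfl⟩ := hπ z
    induction t using TensorProduct.induction_on with
    | zero => rw [map_zero, map_zero]; exact zero_mem _
    | tmul x s =>
      have hπts : π (x ⊗ₜ[R] s) = algebraMap R' A x * j s := by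
        rw [← π.commutes]
        show _ = π _ * π _
        rw [← map_mul]
        simp [Algebra.TensorProduct.algebraMap_apply]
      rw [hπts, map_mul]
      refine mul_mem ?_ (hmem s)
      rw [← Ideal.ResidueField.map_algebraMap p' r (algebraMap R' A) hr.symm]
      exact IntermediateField.algebraMap_mem _ _
    | add x y hx hy => rw [map_add, map_add]; exact add_mem hx hy
  intro z _
  obtain ⟨x, d, hd, hz⟩ := residueField_eq_div r z
  have : z = algebraMap A r.ResidueField x * (algebraMap A r.ResidueField d)⁻¹ := by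
    rw [← hz, mul_assoc, mul_inv_cancel₀ hd, mul_one]
  rw [this]
  exact mul_mem (hA x) (inv_mem (hA d))

theorem finite_primesOver_baseChange {R₁ : Type u} [CommRing R₁] [Algebra R R₁] [Algebra.Etale R R₁]
    (p : Ideal R) (hfin : {q : PrimeSpectrum S | q.asIdeal.comap (algebraMap R S) = p}.Finite)
    (p₁ : Ideal R₁) (hp₁ : p = p₁.comap (algebraMap R R₁)) : (p₁.primesOver (R₁ ⊗[R] S)).Finite := by
  haveI : Algebra.QuasiFinite S (S ⊗[R] R₁) := inferInstance
  let σ : PrimeSpectrum (R₁ ⊗[R] S) → PrimeSpectrum (S ⊗[R] R₁) :=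
    PrimeSpectrum.comap (Algebra.TensorProduct.comm R S R₁).toRingHom
  have hinj : Function.Injective σ := PrimeSpectrum.comap_injective_of_surjective _
    (Algebra.TensorProduct.comm R S R₁).surjective
  have hfs := (Algebra.QuasiFinite.finite_comap_preimage (S := S ⊗[R] R₁) hfin).preimage hinj.injOn
  refine ((hfs.image PrimeSpectrum.asIdeal)).subset ?_
  rintro Q ⟨hQ1, hQ2⟩
  refine ⟨⟨Q, hQ1⟩, ?_, rfl⟩
  show ((Q.comap (Algebra.TensorProduct.comm R S R₁).toRingHom).comap (algebraMap S (S ⊗[R] R₁))).comap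
    (algebraMap R S) = p
  rw [Ideal.comap_comap, Ideal.comap_comap, hp₁, hQ2.over, Ideal.under_def, Ideal.comap_comap]
  congr 1
  refine RingHom.ext fun x => ?_
  show Algebra.TensorProduct.comm R S R₁ (algebraMap S (S ⊗[R] R₁) (algebraMap R S x)) = _
  rw [← IsScalarTower.algebraMap_apply R S (S ⊗[R] R₁), AlgEquiv.commutes,
    IsScalarTower.algebraMap_apply R R₁ (R₁ ⊗[R] S)]
  rfl

section away

variable {R₂ : Type u} [CommRing R₂] [Algebra R R₂] (g : R₂) {R' : Type u} [CommRing R'] [Algebra R R']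
  [Algebra R₂ R'] [IsScalarTower R R₂ R'] [IsLocalization.Away g R']

/-- The base change to a localisation. -/
noncomputable def rho : R₂ ⊗[R] S →ₐ[R] R' ⊗[R] S :=
  Algebra.TensorProduct.map (IsScalarTower.toAlgHom R R₂ R') (AlgHom.id R S)

theorem rho_algebraMap (x : R₂) :
    (rho (S := S) (R := R) (R' := R')) (algebraMap R₂ (R₂ ⊗[R] S) x) =
      algebraMap R' (R' ⊗[R] S) (algebraMap R₂ R' x) := by
  simp [rho, Algebra.TensorProduct.algebraMap_apply]

include g in
theorem exists_num (x : R' ⊗[R] S) :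
    ∃ (u : R' ⊗[R] S) (y : R₂ ⊗[R] S), IsUnit u ∧ u * x = rho (R' := R') y := by
  suffices ∃ (k : ℕ) (y : R₂ ⊗[R] S), algebraMap R' _ (algebraMap R₂ R' g) ^ k * x = rho (R' := R') y by
    obtain ⟨k, y, hy⟩ := this
    exact ⟨_, y, ((IsLocalization.Away.algebraMap_isUnit g).map _).pow k, hy⟩
  induction x using TensorProduct.induction_on with
  | zero => exact ⟨0, 0, by simp⟩
  | tmul a s =>
    obtain ⟨k, b, hb⟩ := IsLocalization.Away.surj g a
    refine ⟨k, b ⊗ₜ s, ?_⟩
    show _ = algebraMap R₂ R' b ⊗ₜ[R] s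
    rw [← hb, ← map_pow, Algebra.TensorProduct.algebraMap_apply, Algebra.algebraMap_self_apply,
      Algebra.TensorProduct.tmul_mul_tmul, one_mul, mul_comm]
  | add x y hx hy =>
    obtain ⟨k, a, ha⟩ := hx
    obtain ⟨l, b, hb⟩ := hy
    refine ⟨k + l, algebraMap R₂ _ g ^ l * a + algebraMap R₂ _ g ^ k * b, ?_⟩
    rw [map_add, map_mul, map_mul, map_pow, map_pow, rho_algebraMap, ← ha, ← hb, pow_add]
    ring

include g in
theorem exists_prime_above (Q : Ideal (R₂ ⊗[R] S)) [Q.IsPrime] (hg : algebraMap R₂ _ g ∉ Q) :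
    ∃ Q' : Ideal (R' ⊗[R] S), Q'.IsPrime ∧ Q'.comap (rho (S := S) (R := R) (R' := R')).toRingHom = Q := by
  let κ := Q.ResidueField
  let a₂ : R₂ →+* κ := (algebraMap (R₂ ⊗[R] S) κ).comp (algebraMap R₂ _)
  have hga : IsUnit (a₂ g) := isUnit_iff_ne_zero.2 fun h => hg (Ideal.algebraMap_residueField_eq_zero.1 h)
  let a' : R' →ₐ[R] κ :=
    { toRingHom := IsLocalization.Away.lift g hga
      commutes' := fun x => by
        show IsLocalization.Away.lift g hga (algebraMap R R' x) = _
        rw [IsScalarTower.algebraMap_apply R R₂ R', IsLocalization.Away.lift_eq]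
        show algebraMap _ κ (algebraMap R₂ (R₂ ⊗[R] S) (algebraMap R R₂ x)) = _
        rw [← IsScalarTower.algebraMap_apply R R₂ (R₂ ⊗[R] S), ← IsScalarTower.algebraMap_apply R (R₂ ⊗[R] S) κ] }
  let b' : S →ₐ[R] κ :=
    { toRingHom := (algebraMap (R₂ ⊗[R] S) κ).comp
        (Algebra.TensorProduct.includeRight : S →ₐ[R] R₂ ⊗[R] S).toRingHom
      commutes' := fun x => (congrArg (algebraMap (R₂ ⊗[R] S) κ) (AlgHom.commutes _ x)).trans
        (IsScalarTower.algebraMap_apply R (R₂ ⊗[R] S) κ x).symm }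
  let θ : R' ⊗[R] S →ₐ[R] κ := Algebra.TensorProduct.lift a' b' fun _ _ => Commute.all _ _
  refine ⟨RingHom.ker θ.toRingHom, RingHom.ker_isPrime _, ?_⟩
  have hθ : θ.toRingHom.comp (rho (S := S) (R := R) (R' := R')).toRingHom = algebraMap (R₂ ⊗[R] S) κ := by
    refine RingHom.ext fun x => ?_
    induction x using TensorProduct.induction_on with
    | zero => simp
    | tmul x s =>
      show θ (algebraMap R₂ R' x ⊗ₜ[R] s) = _
      refine (Algebra.TensorProduct.lift_tmul a' b' (fun _ _ => Commute.all _ _) _ _).trans ?_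
      show IsLocalization.Away.lift g hga (algebraMap R₂ R' x) * algebraMap _ κ ((1 : R₂) ⊗ₜ[R] s) = _
      rw [IsLocalization.Away.lift_eq]
      show algebraMap _ κ (algebraMap R₂ (R₂ ⊗[R] S) x) * _ = _
      rw [← map_mul]
      simp [Algebra.TensorProduct.algebraMap_apply]
    | add x y hx hy => rw [map_add, map_add, hx, hy]
  rw [RingHom.comap_ker, hθ]
  exact Ideal.ker_algebraMap_residueField Q

include g in
theorem exists_part [Algebra.IsIntegral R S] (p : Ideal R) [p.IsPrime] (p' : PrimeSpectrum R')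
    {P : Ideal R₂} (hgP : g ∉ P) (hp'2 : p'.asIdeal.comap (algebraMap R₂ R') = P)
    (hp' : p = p'.asIdeal.comap (algebraMap R R'))
    (hspl : haveI := p'.isPrime; SplitsAt (S := S) p p'.asIdeal hp')
    (e : R₂ ⊗[R] S) (he : IsIdempotentElem e) (Q : Ideal (R₂ ⊗[R] S)) [Q.IsPrime]
    (hQP : Q.comap (algebraMap R₂ _) = P) (hQe : e ∉ Q)
    (hQu : ∀ (Q' : Ideal (R₂ ⊗[R] S)) [Q'.IsPrime], Q'.comap (algebraMap R₂ _) = P → e ∉ Q' → Q' = Q) :
    let A := (R' ⊗[R] S) ⧸ Ideal.span {1 - rho (R' := R') e}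
    ∃ (r : PrimeSpectrum A) (hr : r.asIdeal.comap (algebraMap R' A) = p'.asIdeal),
      (∀ r' : PrimeSpectrum A, r'.asIdeal.comap (algebraMap R' A) = p'.asIdeal → r' = r) ∧
      (letI := (Ideal.ResidueField.map p'.asIdeal r.asIdeal (algebraMap R' A) hr.symm).toAlgebra
       IsPurelyInseparable p'.asIdeal.ResidueField r.asIdeal.ResidueField) := by
  haveI := p'.isPrime
  let π : R' ⊗[R] S →ₐ[R'] (R' ⊗[R] S) ⧸ Ideal.span {1 - rho (R' := R') e} := Ideal.Quotient.mkₐ R' _
  obtain ⟨Q', hQ', hQ'Q⟩ := exists_prime_above (S := S) (R' := R') g Q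
    (fun h => hgP (by rw [← hQP]; exact h))
  haveI := hQ'
  have hover : Q'.comap (algebraMap R' _) = p'.asIdeal := by
    refine eq_of_comap_eq (algebraMap R₂ R') (fun x => ?_) ?_
    · obtain ⟨k, b, hb⟩ := IsLocalization.Away.surj g x
      exact ⟨_, b, (IsLocalization.Away.algebraMap_isUnit g).pow k, by rw [← hb, mul_comm]⟩
    · rw [hp'2, Ideal.comap_comap, ← hQP, ← hQ'Q, Ideal.comap_comap]
      congr 1
  have hI : Ideal.span {1 - rho (R' := R') e} ≤ Q' := by
    rw [Ideal.span_singleton_le_iff_mem]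
    have hfi : IsIdempotentElem (rho (R' := R') e) := he.map (rho (R' := R'))
    have h0 : rho (R' := R') e * (1 - rho (R' := R') e) ∈ Q' := by
      rw [hfi.mul_one_sub_self]; exact Q'.zero_mem
    exact (hQ'.mem_or_mem h0).resolve_left fun h => hQe (hQ'Q ▸ h)
  have hker : RingHom.ker π.toRingHom ≤ Q' := by
    show RingHom.ker (Ideal.Quotient.mk (Ideal.span {1 - rho (R' := R') e})) ≤ Q'
    rw [Ideal.mk_ker]; exact hI
  have hsurj : Function.Surjective π.toRingHom := Ideal.Quotient.mk_surjective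
  haveI : (Q'.map π.toRingHom).IsPrime := Ideal.map_isPrime_of_surjective hsurj hker
  have hrQ : (Q'.map π.toRingHom).comap π.toRingHom = Q' := by
    rw [Ideal.comap_map_of_surjective π.toRingHom hsurj]
    exact sup_eq_left.2 hker
  have hr : (Q'.map π.toRingHom).comap (algebraMap R' _) = p'.asIdeal := by
    rw [← π.comp_algebraMap, ← Ideal.comap_comap, ← AlgHom.toRingHom_eq_coe, hrQ]
    exact hover
  refine ⟨⟨Q'.map π.toRingHom, inferInstance⟩, hr, fun r' hr' => ?_,
    isPurelyInseparable_residue π Ideal.Quotient.mk_surjective hp' hspl (Q'.map π.toRingHom) hr⟩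
  refine PrimeSpectrum.ext (Ideal.comap_injective_of_surjective π.toRingHom hsurj ?_)
  show r'.asIdeal.comap π.toRingHom = (Q'.map π.toRingHom).comap π.toRingHom
  rw [hrQ]
  have hJ : (r'.asIdeal.comap π.toRingHom).comap (algebraMap R' _) = p'.asIdeal := by
    rw [Ideal.comap_comap, AlgHom.toRingHom_eq_coe, π.comp_algebraMap, hr']
  refine eq_of_comap_eq (rho (S := S) (R := R) (R' := R')).toRingHom (exists_num g) ?_
  rw [hQ'Q]
  refine hQu _ ?_ ?_
  · rw [← hp'2, ← hJ]
    simp only [Ideal.comap_comap]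
    congr 1
  · intro h
    have h1 : rho (R' := R') e ∈ r'.asIdeal.comap π.toRingHom := h
    have h2 : (1 - rho (R' := R') e) ∈ r'.asIdeal.comap π.toRingHom := by
      show π (1 - rho (R' := R') e) ∈ r'.asIdeal
      have : π (1 - rho (R' := R') e) = 0 :=
        Ideal.Quotient.eq_zero_iff_mem.2 (Ideal.mem_span_singleton_self _)
      rw [this]; exact r'.asIdeal.zero_mem
    have := (r'.asIdeal.comap π.toRingHom).add_mem h1 h2
    rw [add_sub_cancel] at this
    exact (Ideal.IsPrime.ne_top (I := r'.asIdeal.comap π.toRingHom) inferInstance)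
      ((Ideal.eq_top_iff_one _).2 this)

end away

theorem exists_decomposition [Algebra.IsIntegral R S] (p : Ideal R) [p.IsPrime]
    (hfin : {q : PrimeSpectrum S | q.asIdeal.comap (algebraMap R S) = p}.Finite)
    (hsep : ∀ (q : PrimeSpectrum S) (hq : q.asIdeal.comap (algebraMap R S) = p),
      letI := (Ideal.ResidueField.map p q.asIdeal (algebraMap R S) hq.symm).toAlgebra
      Module.Finite p.ResidueField (separableClosure p.ResidueField q.asIdeal.ResidueField)) :
    ∃ (R' : Type u) (_ : CommRing R') (_ : Algebra R R') (p' : PrimeSpectrum R'), Algebra.Etale R R' ∧ p'.asIdeal.comap (algebraMap R R') = p ∧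
      ∃ (m : ℕ) (A : Fin m → Type u) (_ : ∀ j, CommRing (A j)) (_ : ∀ j, Algebra R' (A j)) (e : R' ⊗[R] S ≃ₐ[R'] (Π j, A j)),
        ∀ j, Algebra.IsIntegral R' (A j) ∧ ∃ (r : PrimeSpectrum (A j)) (hr : r.asIdeal.comap (algebraMap R' (A j)) = p'.asIdeal),
          (∀ r' : PrimeSpectrum (A j), r'.asIdeal.comap (algebraMap R' (A j)) = p'.asIdeal → r' = r) ∧
          letI := (Ideal.ResidueField.map p'.asIdeal r.asIdeal (algebraMap R' (A j)) hr.symm).toAlgebra
          IsPurelyInseparable p'.asIdeal.ResidueField r.asIdeal.ResidueField := by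
  classical
  obtain ⟨R₁, _, _, _, p₁, _, hp₁, hsp⟩ := exists_etale_splitsAt p hfin hsep
  have hfin₁ := finite_primesOver_baseChange (S := S) p hfin p₁ hp₁
  obtain ⟨R₂, _, _, _, P, _, hPp, n, e₀, he₀, hlast, huniq⟩ := exists_idem p₁ hfin₁
  letI : Algebra R R₂ := ((algebraMap R₁ R₂).comp (algebraMap R R₁)).toAlgebra
  haveI : IsScalarTower R R₁ R₂ := IsScalarTower.of_algebraMap_eq fun _ => rfl
  let ψ := Algebra.TensorProduct.cancelBaseChange R R₁ R₂ R₂ S
  let e : Fin (n + 1) → R₂ ⊗[R] S := fun i => ψ (e₀ i)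
  have he : CompleteOrthogonalIdempotents e := he₀.map ψ.toAlgHom.toRingHom
  have hcψ : ∀ Q : Ideal (R₂ ⊗[R] S), Q.comap (algebraMap R₂ _) = P →
      (Q.comap ψ.toAlgHom.toRingHom).comap (algebraMap R₂ _) = P := fun Q hQ => by
    rw [Ideal.comap_comap, AlgHom.toRingHom_eq_coe, AlgHom.comp_algebraMap, hQ]
  obtain ⟨g, hgP, hg⟩ := exists_kill (T := R₂ ⊗[R] S) P (he.idem (.last n)) fun Q _ hQ =>
    hlast (Q.comap ψ.toAlgHom.toRingHom) (hcψ Q hQ)
  let R' := Localization.Away g
  haveI : Algebra.Etale R R₂ := Algebra.Etale.comp R R₁ R₂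
  haveI : Algebra.Etale R₂ R' := Algebra.Etale.of_isLocalizationAway g
  haveI : Algebra.Etale R R' := Algebra.Etale.comp R R₂ R'
  let ρ : R₂ ⊗[R] S →ₐ[R] R' ⊗[R] S := rho
  have hgu : IsUnit (algebraMap R' (R' ⊗[R] S) (algebraMap R₂ R' g)) :=
    (IsLocalization.Away.algebraMap_isUnit g).map _
  let f : Fin n → R' ⊗[R] S := fun i => ρ (e i.castSucc)
  have hf0 : ρ (e (.last n)) = 0 := by
    have := congrArg ρ hg
    rw [map_mul, show ρ (algebraMap R₂ _ g) = _ from rho_algebraMap g, map_zero] at this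
    exact hgu.mul_right_eq_zero.1 this
  have hef := he.map ρ.toRingHom
  have hf : CompleteOrthogonalIdempotents f := by
    refine ⟨⟨fun i => hef.idem i.castSucc, fun i k hik => hef.ortho fun h => hik (Fin.castSucc_injective n h)⟩, ?_⟩
    have := hef.complete
    rw [Fin.sum_univ_castSucc] at this
    simpa [hf0, f] using this
  let υ : R₂ →+* P.ResidueField := algebraMap R₂ P.ResidueField
  have hυg : IsUnit (υ g) := isUnit_iff_ne_zero.2 (by simpa [υ] using hgP)
  let ν : R' →+* P.ResidueField := IsLocalization.Away.lift g hυg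
  have hν : ν.comp (algebraMap R₂ R') = υ := IsLocalization.Away.lift_comp g hυg
  let p' : PrimeSpectrum R' := ⟨RingHom.ker ν, RingHom.ker_isPrime ν⟩
  have hp'2 : p'.asIdeal.comap (algebraMap R₂ R') = P := by
    show (RingHom.ker ν).comap (algebraMap R₂ R') = P
    rw [RingHom.comap_ker, hν]
    exact Ideal.ker_algebraMap_residueField P
  haveI : IsScalarTower R R₁ R' := IsScalarTower.of_algebraMap_eq fun x => by
    rw [IsScalarTower.algebraMap_apply R R₂ R', IsScalarTower.algebraMap_apply R R₁ R₂,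
      ← IsScalarTower.algebraMap_apply R₁ R₂ R']
  have hp'1 : p₁ = p'.asIdeal.comap (algebraMap R₁ R') := by
    rw [IsScalarTower.algebraMap_eq R₁ R₂ R', ← Ideal.comap_comap, hp'2]
    exact hPp.over
  have hp' : p = p'.asIdeal.comap (algebraMap R R') := by
    rw [IsScalarTower.algebraMap_eq R R₁ R', ← Ideal.comap_comap, ← hp'1, ← hp₁]
  haveI : p'.asIdeal.IsPrime := p'.isPrime
  have hspl : SplitsAt (S := S) p p'.asIdeal hp' := splitsAt_trans hp₁ hp'1 hp' hsp
  refine ⟨R', inferInstance, inferInstance, p', inferInstance, hp'.symm, n,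
    fun i => (R' ⊗[R] S) ⧸ Ideal.span {1 - f i}, inferInstance, inferInstance,
    AlgEquiv.ofBijective (Pi.algHom R' _ fun i => Ideal.Quotient.mkₐ R' (Ideal.span {1 - f i}))
      hf.bijective_pi, fun i => ⟨inferInstance, ?_⟩⟩
  obtain ⟨Q₀, hQ₀, hQ₀P, hQ₀e, hQ₀u⟩ := huniq i
  let Q := Q₀.comap ψ.symm.toAlgHom.toRingHom
  have hQP : Q.comap (algebraMap R₂ _) = P := by
    rw [Ideal.comap_comap, AlgHom.toRingHom_eq_coe, AlgHom.comp_algebraMap, hQ₀P]
  have hQe : e i.castSucc ∉ Q := by
    show ψ.symm (ψ (e₀ i.castSucc)) ∉ Q₀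
    rwa [AlgEquiv.symm_apply_apply]
  have hQu : ∀ (Q' : Ideal (R₂ ⊗[R] S)) [Q'.IsPrime], Q'.comap (algebraMap R₂ _) = P →
      e i.castSucc ∉ Q' → Q' = Q := fun Q' _ h1 h2 => by
    have := hQ₀u (Q'.comap ψ.toAlgHom.toRingHom) (hcψ Q' h1) h2
    show Q' = Q₀.comap _
    rw [← this, Ideal.comap_comap]
    ext x
    show x ∈ Q' ↔ ψ (ψ.symm x) ∈ Q'
    rw [AlgEquiv.apply_symm_apply]
  exact exists_part g p p' hgP hp'2 hp' hspl (e i.castSucc) (he.idem _) Q hQP hQe hQu

end GrothLib.EtSplit10
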