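import Groth.Agent.Lib.SmoothSection.QuasiSection
import Mathlib.FieldTheory.PurelyInseparable.PerfectClosure
import Mathlib.FieldTheory.Normal.Closure
import Mathlib.FieldTheory.IsAlgClosed.AlgebraicClosure
import Mathlib.RingTheory.LocalRing.ResidueField.Ideal
import Mathlib.RingTheory.Etale.Basic

/-!
# Étale neighbourhoods splitting the separable residue extensions
-/

set_option autoImplicit false
set_option linter.all false
set_option backward.isDefEq.respectTransparency false

universe u

open TensorProduct Polynomial

namespace GrothLib.EtSplit10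

theorem residueField_eq_div {R : Type u} [CommRing R] (p : Ideal R) [p.IsPrime] (c : p.ResidueField) :
    ∃ a d : R, algebraMap R p.ResidueField d ≠ 0 ∧
      c * algebraMap R p.ResidueField d = algebraMap R p.ResidueField a := by
  obtain ⟨x, y, hy, rfl⟩ := IsFractionRing.div_surjective (A := R ⧸ p) c
  obtain ⟨a, rfl⟩ := Ideal.Quotient.mk_surjective x
  obtain ⟨d, rfl⟩ := Ideal.Quotient.mk_surjective y
  have hd : algebraMap R p.ResidueField d ≠ 0 := by
    show algebraMap (R ⧸ p) p.ResidueField (Ideal.Quotient.mk p d) ≠ 0
    exact IsFractionRing.to_map_ne_zero_of_mem_nonZeroDivisors hy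
  refine ⟨a, d, hd, ?_⟩
  show _ / algebraMap (R ⧸ p) p.ResidueField (Ideal.Quotient.mk p d) * _ = _
  exact div_mul_cancel₀ _ hd

/-- A map of rings to a prime of which the residue fields split all separable elements. -/
def SplitsAt {R S R' : Type u} [CommRing R] [CommRing S] [CommRing R'] [Algebra R S] [Algebra R R']
    (p : Ideal R) [p.IsPrime] (p' : Ideal R') [p'.IsPrime]
    (h : p = p'.comap (algebraMap R R')) : Prop :=
  ∀ (q : Ideal S) [q.IsPrime] (hq : q.comap (algebraMap R S) = p) (y : q.ResidueField),
    letI := (Ideal.ResidueField.map p q (algebraMap R S) hq.symm).toAlgebra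
    IsSeparable p.ResidueField y →
      ((minpoly p.ResidueField y).map (Ideal.ResidueField.map p p' (algebraMap R R') h)).Splits

theorem exists_splitting_field {k : Type u} [Field k] {ι : Type*} [Finite ι] (K : ι → Type u)
    [∀ i, Field (K i)] [∀ i, Algebra k (K i)]
    (h : ∀ i, Module.Finite k (separableClosure k (K i))) :
    ∃ (L : Type u) (_ : Field L) (_ : Algebra k L) (_ : FiniteDimensional k L) (_ : Algebra.IsSeparable k L),
      ∀ i (y : K i), IsSeparable k y → ((minpoly k y).map (algebraMap k L)).Splits := by
  classical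
  let Ω := AlgebraicClosure k
  let L : IntermediateField k Ω := ⨆ i, IntermediateField.normalClosure k (separableClosure k (K i)) Ω
  haveI : ∀ i, FiniteDimensional k (IntermediateField.normalClosure k (separableClosure k (K i)) Ω) :=
    fun i => haveI := h i; inferInstance
  haveI : FiniteDimensional k L := IntermediateField.finiteDimensional_iSup_of_finite
  haveI : Algebra.IsSeparable k L := by
    rw [← le_separableClosure_iff]
    refine iSup_le fun i => normalClosure_le_iff.2 fun σ => ?_
    rintro _ ⟨y, rfl⟩
    rw [mem_separableClosure_iff]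
    show (minpoly k (σ y)).Separable
    rw [minpoly.algHom_eq σ σ.injective y]
    exact Algebra.IsSeparable.isSeparable k y
  refine ⟨L, inferInstance, inferInstance, inferInstance, inferInstance, fun i y hy => ?_⟩
  let y' : separableClosure k (K i) := ⟨y, mem_separableClosure_iff.2 hy⟩
  haveI := h i
  haveI : Algebra.IsAlgebraic k (separableClosure k (K i)) := Algebra.IsAlgebraic.of_finite k _
  let N := IntermediateField.normalClosure k (separableClosure k (K i)) Ω
  let σ : separableClosure k (K i) →ₐ[k] Ω := IsAlgClosed.lift
  let w : N := ⟨σ y', AlgHom.fieldRange_le_normalClosure σ ⟨y', rfl⟩⟩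
  have hw : minpoly k w = minpoly k y := by
    rw [← minpoly.algHom_eq (N.val) N.val.injective w]
    show minpoly k (σ y') = _
    rw [minpoly.algHom_eq σ σ.injective y']
    exact (minpoly.algHom_eq (separableClosure k (K i)).val (separableClosure k (K i)).val.injective y').symm
  have hN : Normal k N := inferInstance
  have h1 := hN.splits w
  rw [hw] at h1
  have hle : N ≤ L := le_iSup (fun j => IntermediateField.normalClosure k (separableClosure k (K j)) Ω) i
  have h2 := h1.map (IntermediateField.inclusion hle).toRingHom
  rwa [Polynomial.map_map, AlgHom.toRingHom_eq_coe, AlgHom.comp_algebraMap] at h2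

theorem exists_etale_splitsAt {R S : Type u} [CommRing R] [CommRing S] [Algebra R S]
    (p : Ideal R) [p.IsPrime] (hfin : {q : PrimeSpectrum S | q.asIdeal.comap (algebraMap R S) = p}.Finite)
    (hsep : ∀ (q : PrimeSpectrum S) (hq : q.asIdeal.comap (algebraMap R S) = p),
      letI := (Ideal.ResidueField.map p q.asIdeal (algebraMap R S) hq.symm).toAlgebra
      Module.Finite p.ResidueField (separableClosure p.ResidueField q.asIdeal.ResidueField)) :
    ∃ (R₁ : Type u) (_ : CommRing R₁) (_ : Algebra R R₁) (_ : Algebra.Etale R R₁) (p₁ : Ideal R₁)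
      (_ : p₁.IsPrime) (h : p = p₁.comap (algebraMap R R₁)), SplitsAt (S := S) p p₁ h := by
  classical
  haveI := hfin.to_subtype
  let K : {q : PrimeSpectrum S | q.asIdeal.comap (algebraMap R S) = p} → Type u :=
    fun q => q.1.asIdeal.ResidueField
  letI : ∀ q, Algebra p.ResidueField (K q) :=
    fun q => (Ideal.ResidueField.map p q.1.asIdeal (algebraMap R S) q.2.symm).toAlgebra
  obtain ⟨L, _, _, _, _, hL⟩ := exists_splitting_field K fun q => hsep q.1 q.2
  letI : Algebra R L := ((algebraMap p.ResidueField L).comp (algebraMap R p.ResidueField)).toAlgebra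
  haveI : IsScalarTower R p.ResidueField L := IsScalarTower.of_algebraMap_eq fun _ => rfl
  let b := Module.finBasis p.ResidueField L
  obtain ⟨P, φ, ys, hys⟩ := GrothLib.SmoothSection.exists_standardEtale (residueField_eq_div p) b
  let p₁ := RingHom.ker φ.toRingHom
  haveI : p₁.IsPrime := RingHom.ker_isPrime _
  have hp : p = p₁.comap (algebraMap R P.Ring) := by
    ext r
    rw [Ideal.mem_comap, RingHom.mem_ker]
    show _ ↔ φ (algebraMap R P.Ring r) = 0
    rw [φ.commutes]
    show _ ↔ algebraMap p.ResidueField L (algebraMap R p.ResidueField r) = 0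
    rw [map_eq_zero, Ideal.algebraMap_residueField_eq_zero]
  refine ⟨P.Ring, inferInstance, inferInstance, inferInstance, p₁, inferInstance, hp, ?_⟩
  intro q _ hq y
  letI := (Ideal.ResidueField.map p q (algebraMap R S) hq.symm).toAlgebra
  intro hy
  let m := Ideal.ResidueField.map p p₁ (algebraMap R P.Ring) hp
  let ι : p₁.ResidueField →+* L := Ideal.ResidueField.lift p₁ φ.toRingHom le_rfl
    (fun x hx => isUnit_iff_ne_zero.2 hx)
  have hι : ι.comp m = algebraMap p.ResidueField L := by
    refine RingHom.ext fun c => ?_
    obtain ⟨a, d, hd, hc⟩ := residueField_eq_div p c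
    have key : ∀ r : R, ι (m (algebraMap R p.ResidueField r)) =
        algebraMap p.ResidueField L (algebraMap R p.ResidueField r) := fun r => by
      rw [Ideal.ResidueField.map_algebraMap, Ideal.ResidueField.lift_algebraMap]
      exact φ.commutes r
    have h1 := congrArg (ι.comp m) hc
    have h2 := congrArg (algebraMap p.ResidueField L) hc
    rw [map_mul, RingHom.comp_apply, RingHom.comp_apply, RingHom.comp_apply, key, key] at h1
    rw [map_mul] at h2
    rw [RingHom.comp_apply]
    exact mul_right_cancel₀ (by simpa using hd) (h1.trans h2.symm)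
  have hsurj : Function.Surjective ι := fun x => by
    rw [← b.sum_repr x]
    refine ⟨∑ i, m (b.repr x i) * algebraMap P.Ring p₁.ResidueField (ys i), ?_⟩
    rw [map_sum]
    refine Finset.sum_congr rfl fun i _ => ?_
    rw [map_mul, Ideal.ResidueField.lift_algebraMap, Algebra.smul_def]
    exact congrArg₂ (· * ·) (congr($hι (b.repr x i))) (hys i)
  let e := RingEquiv.ofBijective ι ⟨ι.injective, hsurj⟩
  have h3 := (hL ⟨⟨q, inferInstance⟩, hq⟩ y hy).map (e.symm : L →+* p₁.ResidueField)
  rw [Polynomial.map_map] at h3
  have : (e.symm : L →+* p₁.ResidueField).comp (algebraMap p.ResidueField L) = m := by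
    rw [← hι]
    exact RingHom.ext fun c => e.symm_apply_apply (m c)
  rwa [this] at h3

end GrothLib.EtSplit10
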